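import Mathlib

set_option autoImplicit false

namespace Cfsg.Agent.Lib.Helper95.FP

open Equiv Finset

variable {α : Type*} [Fintype α] [DecidableEq α]

/-- number of points where `h b h⁻¹` and `c` agree (parametrised by `y = h⁻¹ x`). -/
def agr (b c h : Perm α) : ℕ := (univ.filter fun y => h (b y) = c (h y)).card

/-- number of fixed points. -/
def fx (b : Perm α) : ℕ := (univ.filter fun y => b y = y).card

variable (H : Subgroup (Perm α)) [DecidablePred (· ∈ H)]

/-- number of elements of `H` with prescribed values at two points. -/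
def NN (y y' x x' : α) : ℕ := (univ.filter fun h : Perm α => h ∈ H ∧ h y = x ∧ h y' = x').card

theorem NN_transl {g₁ g₂ : Perm α} (h₁ : g₁ ∈ H) (h₂ : g₂ ∈ H) (y y' x x' : α) :
    NN H (g₂ y) (g₂ y') (g₁ x) (g₁ x') = NN H y y' x x' := by
  unfold NN
  refine Finset.card_nbij' (fun h => g₁⁻¹ * h * g₂) (fun h => g₁ * h * g₂⁻¹) ?_ ?_ ?_ ?_
  · intro h hh
    simp only [coe_filter, mem_univ, true_and, Set.mem_ofPred_eq] at hh ⊢
    obtain ⟨hH, e1, e2⟩ := hh
    refine ⟨H.mul_mem (H.mul_mem (H.inv_mem h₁) hH) h₂, ?_, ?_⟩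
    · simp [Perm.mul_apply, e1]
    · simp [Perm.mul_apply, e2]
  · intro h hh
    simp only [coe_filter, mem_univ, true_and, Set.mem_ofPred_eq] at hh ⊢
    obtain ⟨hH, e1, e2⟩ := hh
    refine ⟨H.mul_mem (H.mul_mem h₁ hH) (H.inv_mem h₂), ?_, ?_⟩
    · simp [Perm.mul_apply, e1]
    · simp [Perm.mul_apply, e2]
  · intro h _
    group
  · intro h _
    group

theorem NN_diag (h1 : ∀ y x : α, ∃ g ∈ H, g y = x) (y₀ y x : α) :
    NN H y y x x = NN H y₀ y₀ y₀ y₀ := by
  obtain ⟨g₂, hg₂, rfl⟩ := h1 y₀ y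
  obtain ⟨g₁, hg₁, rfl⟩ := h1 y₀ x
  exact NN_transl H hg₁ hg₂ _ _ _ _

theorem NN_off (h2 : ∀ y y' x x' : α, y ≠ y' → x ≠ x' → ∃ g ∈ H, g y = x ∧ g y' = x')
    {y₀ y₁ y y' x x' : α} (h0 : y₀ ≠ y₁) (hy : y ≠ y') (hx : x ≠ x') :
    NN H y y' x x' = NN H y₀ y₁ y₀ y₁ := by
  obtain ⟨g₂, hg₂, rfl, rfl⟩ := h2 y₀ y₁ y y' h0 hy
  obtain ⟨g₁, hg₁, rfl, rfl⟩ := h2 y₀ y₁ x x' h0 hx
  exact NN_transl H hg₁ hg₂ _ _ _ _

theorem NN_zero1 {y x x' : α} (hx : x ≠ x') : NN H y y x x' = 0 := by
  unfold NN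
  rw [card_eq_zero, filter_eq_empty_iff]
  rintro h - ⟨-, e1, e2⟩
  exact hx (e1.symm.trans e2)

theorem NN_zero2 {y y' x : α} (hy : y ≠ y') : NN H y y' x x = 0 := by
  unfold NN
  rw [card_eq_zero, filter_eq_empty_iff]
  rintro h - ⟨-, e1, e2⟩
  exact hy (h.injective (e1.trans e2.symm))

theorem sum_agr (b c : Perm α) :
    ∑ h ∈ univ.filter (· ∈ H), agr b c h = ∑ y, ∑ x, NN H y (b y) x (c x) := by
  unfold agr
  simp_rw [card_filter]
  rw [sum_comm]
  refine sum_congr rfl fun y _ => ?_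
  rw [← card_filter, filter_filter]
  rw [card_eq_sum_card_fiberwise (f := fun h : Perm α => h y) (t := univ)
    (fun _ _ => mem_coe.2 (mem_univ _))]
  refine sum_congr rfl fun x _ => ?_
  rw [filter_filter]
  unfold NN
  congr 1
  ext h
  simp only [mem_filter, mem_univ, true_and]
  constructor
  · rintro ⟨⟨hH, e1⟩, rfl⟩
    exact ⟨hH, rfl, e1⟩
  · rintro ⟨hH, rfl, e1⟩
    exact ⟨⟨hH, e1⟩, rfl⟩

theorem card_H_eq (y : α) : (univ.filter (· ∈ H)).card = ∑ x, NN H y y x x := by
  rw [card_eq_sum_card_fiberwise (f := fun h : Perm α => h y) (t := univ)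
    (fun _ _ => mem_coe.2 (mem_univ _))]
  refine sum_congr rfl fun x _ => ?_
  rw [filter_filter]
  unfold NN
  congr 1
  ext h
  simp only [mem_filter, mem_univ, true_and]
  tauto

theorem NN_diag_eq (y y' : α) : NN H y y y y = ∑ x, NN H y y' y x := by
  unfold NN
  rw [card_eq_sum_card_fiberwise (f := fun h : Perm α => h y') (t := univ)
    (fun _ _ => mem_coe.2 (mem_univ _))]
  refine sum_congr rfl fun x _ => ?_
  rw [filter_filter]
  congr 1
  ext h
  simp only [mem_filter, mem_univ, true_and]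
  tauto

theorem fx_add (b : Perm α) : fx b + b.support.card = Fintype.card α := by
  unfold fx
  have := Finset.card_filter_add_card_filter_not (s := (univ : Finset α)) (fun y => b y = y)
  rw [card_univ] at this
  rw [← this]
  congr 1

theorem avg (h1 : ∀ y x : α, ∃ g ∈ H, g y = x)
    (h2 : ∀ y y' x x' : α, y ≠ y' → x ≠ x' → ∃ g ∈ H, g y = x ∧ g y' = x')
    {y₀ y₁ : α} (h0 : y₀ ≠ y₁) (b c : Perm α) (f₀ : ℕ) (hconst : ∀ h ∈ H, agr b c h = f₀) :
    (Fintype.card α : ℤ) * (Fintype.card α - 1) * f₀ =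
      (Fintype.card α - 1) * fx b * fx c + (Fintype.card α - fx b) * (Fintype.card α - fx c) := by
  set s₁ := NN H y₀ y₀ y₀ y₀ with hs₁
  set s₂ := NN H y₀ y₁ y₀ y₁ with hs₂
  set n := Fintype.card α with hn
  have hH : (univ.filter (· ∈ H)).card = n * s₁ := by
    rw [card_H_eq H y₀, sum_congr rfl (fun x _ => NN_diag H h1 y₀ y₀ x), sum_const, card_univ,
      smul_eq_mul]
  have hs12 : s₁ + s₂ = n * s₂ := by
    rw [hs₁, NN_diag_eq H y₀ y₁]
    have : ∀ x, NN H y₀ y₁ y₀ x = if x = y₀ then 0 else s₂ := by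
      intro x
      split_ifs with hx
      · subst hx
        exact NN_zero2 H h0
      · exact NN_off H h2 h0 h0 (Ne.symm hx)
    simp_rw [this]
    rw [sum_ite, sum_const_zero, zero_add, sum_const, smul_eq_mul]
    have h3 : (univ.filter fun x => ¬ x = y₀).card + 1 = n := by
      have := Finset.card_filter_add_card_filter_not (s := (univ : Finset α)) (fun y => y = y₀)
      rw [card_univ, filter_eq' univ y₀, if_pos (mem_univ _), card_singleton] at this
      omega
    rw [← h3]
    ring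
  have hs2pos : 0 < s₂ := card_pos.2 ⟨1, by simp [H.one_mem]⟩
  have hsum : ∑ h ∈ univ.filter (· ∈ H), agr b c h
      = fx b * fx c * s₁ + b.support.card * c.support.card * s₂ := by
    rw [sum_agr]
    have : ∀ y, ∑ x, NN H y (b y) x (c x)
        = if b y = y then fx c * s₁ else c.support.card * s₂ := by
      intro y
      split_ifs with hy
      · rw [hy]
        have : ∀ x, NN H y y x (c x) = if c x = x then s₁ else 0 := by
          intro x
          split_ifs with hx
          · rw [hx]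
            exact NN_diag H h1 y₀ y x
          · exact NN_zero1 H (Ne.symm hx)
        simp_rw [this]
        rw [← sum_filter, sum_const, smul_eq_mul]
        rfl
      · have : ∀ x, NN H y (b y) x (c x) = if c x ≠ x then s₂ else 0 := by
          intro x
          split_ifs with hx
          · exact NN_off H h2 h0 (Ne.symm hy) (Ne.symm hx)
          · push Not at hx
            rw [hx]
            exact NN_zero2 H (Ne.symm hy)
        simp_rw [this]
        rw [← sum_filter, sum_const, smul_eq_mul]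
        rfl
    simp_rw [this]
    rw [sum_ite, sum_const, sum_const, smul_eq_mul, smul_eq_mul]
    have e1 : (univ.filter fun y => b y = y).card = fx b := rfl
    have e2 : (univ.filter fun y => ¬ b y = y).card = b.support.card := rfl
    rw [e1, e2]
    ring
  have hsum2 : ∑ h ∈ univ.filter (· ∈ H), agr b c h = n * s₁ * f₀ := by
    rw [sum_congr rfl (fun h hh => hconst h (mem_filter.1 hh).2), sum_const, smul_eq_mul, hH]
  have hb := fx_add b
  have hc := fx_add c
  have hb' : (b.support.card : ℤ) = n - fx b := by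
    omega
  have hc' : (c.support.card : ℤ) = n - fx c := by
    omega
  have E : (n : ℤ) * s₁ * f₀ = fx b * fx c * s₁ + (n - fx b) * (n - fx c) * s₂ := by
    rw [← hb', ← hc']
    exact_mod_cast hsum2.symm.trans hsum
  have E12 : (s₁ : ℤ) + s₂ = n * s₂ := by exact_mod_cast hs12
  have hs2 : (s₂ : ℤ) ≠ 0 := by
    have : s₂ ≠ 0 := hs2pos.ne'
    exact_mod_cast this
  apply mul_left_cancel₀ hs2
  linear_combination E - (n * f₀ - fx b * fx c) * E12

end Cfsg.Agent.Lib.Helper95.FP
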