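import Mathlib
import Cfsg.Agent.Lib.Helper95.MultTrans
import Cfsg.Agent.Lib.Helper95.FP.Avg

set_option autoImplicit false

namespace Cfsg.Agent.Lib.Helper95.FP

open Equiv Finset

variable {α : Type*} [Fintype α] [DecidableEq α]

theorem alt_ext (s : Finset α) (hs : s.card + 2 ≤ Fintype.card α) (f : α → α)
    (hf : Set.InjOn f s) : ∃ g : Perm α, g ∈ alternatingGroup α ∧ ∀ a ∈ s, g a = f a := by
  have h := alternatingGroup.isMultiplyPretransitive α
  obtain ⟨g, hg⟩ := exists_smul_eq_of_injOn_le h (Nat.sub_le _ _) s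
    (by rw [Nat.card_eq_fintype_card]; omega) f hf
  exact ⟨g.1, g.2, hg⟩

theorem sym_ext (s : Finset α) (f : α → α)
    (hf : Set.InjOn f s) : ∃ g : Perm α, ∀ a ∈ s, g a = f a := by
  have h := Equiv.Perm.isMultiplyPretransitive α s.card
  obtain ⟨g, hg⟩ := exists_smul_eq_of_injOn h s rfl f hf
  exact ⟨g, hg⟩

theorem alt_ext3 (hn : 5 ≤ Fintype.card α) {y1 y2 y3 x1 x2 x3 : α} (hy12 : y1 ≠ y2)
    (hy13 : y1 ≠ y3) (hy23 : y2 ≠ y3) (hx12 : x1 ≠ x2) (hx13 : x1 ≠ x3) (hx23 : x2 ≠ x3) :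
    ∃ g : Perm α, g ∈ alternatingGroup α ∧ g y1 = x1 ∧ g y2 = x2 ∧ g y3 = x3 := by
  obtain ⟨g, hg, h⟩ := alt_ext ({y1, y2, y3} : Finset α)
    (by have := Finset.card_le_three (a := y1) (b := y2) (c := y3); omega)
    (fun y => if y = y1 then x1 else if y = y2 then x2 else x3) (by
      intro a ha b hb hab
      simp only [coe_insert, coe_singleton, Set.mem_insert_iff, Set.mem_singleton_iff] at ha hb
      rcases ha with rfl | rfl | rfl <;> rcases hb with rfl | rfl | rfl <;>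
        simp_all [Ne.symm])
  refine ⟨g, hg, ?_, ?_, ?_⟩
  · rw [h y1 (by simp)]; simp
  · rw [h y2 (by simp)]; simp [hy12.symm]
  · rw [h y3 (by simp)]; simp [hy13.symm, hy23.symm]

theorem alt_ext2 (hn : 5 ≤ Fintype.card α) {y1 y2 x1 x2 : α} (hy12 : y1 ≠ y2)
    (hx12 : x1 ≠ x2) :
    ∃ g : Perm α, g ∈ alternatingGroup α ∧ g y1 = x1 ∧ g y2 = x2 := by
  obtain ⟨g, hg, h⟩ := alt_ext ({y1, y2} : Finset α)
    (by have := Finset.card_le_two (a := y1) (b := y2); omega)
    (fun y => if y = y1 then x1 else x2) (by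
      intro a ha b hb hab
      simp only [coe_insert, coe_singleton, Set.mem_insert_iff, Set.mem_singleton_iff] at ha hb
      rcases ha with rfl | rfl <;> rcases hb with rfl | rfl <;>
        simp_all [Ne.symm])
  refine ⟨g, hg, ?_, ?_⟩
  · rw [h y1 (by simp)]; simp
  · rw [h y2 (by simp)]; simp [hy12.symm]

theorem alt_ext1 (hn : 5 ≤ Fintype.card α) (y1 x1 : α) :
    ∃ g : Perm α, g ∈ alternatingGroup α ∧ g y1 = x1 := by
  obtain ⟨g, hg, h⟩ := alt_ext ({y1} : Finset α)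
    (by rw [card_singleton]; omega)
    (fun _ => x1) (by simp)
  exact ⟨g, hg, h y1 (by simp)⟩

theorem sym_ext4 {y1 y2 y3 y4 x1 x2 x3 x4 : α} (hy12 : y1 ≠ y2)
    (hy13 : y1 ≠ y3) (hy14 : y1 ≠ y4) (hy23 : y2 ≠ y3) (hy24 : y2 ≠ y4) (hy34 : y3 ≠ y4)
    (hx12 : x1 ≠ x2) (hx13 : x1 ≠ x3) (hx14 : x1 ≠ x4) (hx23 : x2 ≠ x3) (hx24 : x2 ≠ x4)
    (hx34 : x3 ≠ x4) :
    ∃ g : Perm α, g y1 = x1 ∧ g y2 = x2 ∧ g y3 = x3 ∧ g y4 = x4 := by
  obtain ⟨g, h⟩ := sym_ext ({y1, y2, y3, y4} : Finset α)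
    (fun y => if y = y1 then x1 else if y = y2 then x2 else if y = y3 then x3 else x4) (by
      intro a ha b hb hab
      simp only [coe_insert, coe_singleton, Set.mem_insert_iff, Set.mem_singleton_iff] at ha hb
      rcases ha with rfl | rfl | rfl | rfl <;> rcases hb with rfl | rfl | rfl | rfl <;>
        simp_all [Ne.symm])
  refine ⟨g, ?_, ?_, ?_, ?_⟩
  · rw [h y1 (by simp)]; simp
  · rw [h y2 (by simp)]; simp [hy12.symm]
  · rw [h y3 (by simp)]; simp [hy13.symm, hy23.symm]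
  · rw [h y4 (by simp)]; simp [hy14.symm, hy24.symm, hy34.symm]

theorem two_le_agr {b c h : Perm α} {y y' : α} (hyy : y ≠ y') (e1 : h (b y) = c (h y))
    (e2 : h (b y') = c (h y')) : 2 ≤ agr b c h := by
  unfold agr
  exact Finset.one_lt_card.2 ⟨y, by simp [e1], y', by simp [e2], hyy⟩

theorem agr_inv (b c h : Perm α) : agr b c h = agr c b h⁻¹ := by
  unfold agr
  refine Finset.card_nbij' (fun y => h y) (fun x => h⁻¹ x) ?_ ?_ ?_ ?_
  · intro y hy
    simp only [coe_filter, mem_univ, true_and, Set.mem_ofPred_eq] at hy ⊢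
    rw [← hy]
    simp
  · intro x hx
    simp only [coe_filter, mem_univ, true_and, Set.mem_ofPred_eq] at hx ⊢
    rw [← hx]
    simp
  · intro y _
    simp
  · intro y _
    simp

theorem exists_moved {b : Perm α} (hb : b ≠ 1) : ∃ x, b x ≠ x := by
  by_contra h
  push Not at h
  exact hb (Equiv.ext h)

/-- nested fixed point sets -/
theorem exists_agr_ge (b c : Perm α) (hb : b ≠ 1) (hle : fx b ≤ fx c) :
    ∃ h ∈ alternatingGroup α, fx b ≤ agr b c h := by
  set Fb := univ.filter fun y => b y = y with hFb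
  set Fc := univ.filter fun y => c y = y with hFc
  obtain ⟨t, ht, htc⟩ := Finset.exists_subset_card_eq (s := Fc) hle
  let e : Fb ≃ t := Finset.equivOfCardEq (htc.symm ▸ rfl)
  let f : α → α := fun y => if hy : y ∈ Fb then (e ⟨y, hy⟩ : α) else y
  have hf : Set.InjOn f Fb := by
    intro y hy y' hy' hyy
    simp only [f, dif_pos (mem_coe.1 hy), dif_pos (mem_coe.1 hy')] at hyy
    have := e.injective (Subtype.ext hyy)
    exact congrArg Subtype.val this
  have h2 := Perm.two_le_card_support_of_ne_one hb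
  have h3 := fx_add b
  obtain ⟨h, hh, hv⟩ := alt_ext Fb (by show fx b + 2 ≤ _; omega) f hf
  refine ⟨h, hh, ?_⟩
  apply Finset.card_le_card
  intro y hy
  have hy1 : b y = y := (mem_filter.1 hy).2
  have hfy : f y ∈ Fc := by
    have : f y = (e ⟨y, hy⟩ : α) := dif_pos hy
    rw [this]
    exact ht (e ⟨y, hy⟩).2
  rw [mem_filter]
  refine ⟨mem_univ _, ?_⟩
  rw [hy1, hv y hy]
  exact ((mem_filter.1 hfy).2).symm

theorem agree_fix (hn : 5 ≤ Fintype.card α) (b c : Perm α) (hb : b ≠ 1) (hc : c ≠ 1)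
    (hFb : 1 ≤ fx b) (hFc : 1 ≤ fx c) : ∃ h ∈ alternatingGroup α, 2 ≤ agr b c h := by
  obtain ⟨p', hp'⟩ := card_pos.1 hFb
  obtain ⟨p, hp⟩ := card_pos.1 hFc
  have hp' : b p' = p' := (mem_filter.1 hp').2
  have hp : c p = p := (mem_filter.1 hp).2
  obtain ⟨q', hq'⟩ := exists_moved hb
  obtain ⟨q, hq⟩ := exists_moved hc
  have key : ∀ (s : Perm α) (u v : α), s u = u → s v ≠ v → u ≠ v ∧ u ≠ s v ∧ v ≠ s v := by
    intro s u v hu hv
    refine ⟨?_, ?_, hv.symm⟩
    · rintro rfl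
      exact hv hu
    · intro h
      apply hv
      have : s u = s v := by rw [hu]; exact h
      rw [← s.injective this]
      exact hu
  obtain ⟨a1, a2, a3⟩ := key b p' q' hp' hq'
  obtain ⟨b1, b2, b3⟩ := key c p q hp hq
  obtain ⟨h, hh, e1, e2, e3⟩ := alt_ext3 hn a1 a2 a3 b1 b2 b3
  refine ⟨h, hh, two_le_agr a1 ?_ ?_⟩
  · rw [hp', e1, hp]
  · rw [e3, e2]

theorem agree_path (hn : 5 ≤ Fintype.card α) (b c : Perm α) {y x : α} (hy : b (b y) ≠ y)
    (hx : c (c x) ≠ x) : ∃ h ∈ alternatingGroup α, 2 ≤ agr b c h := by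
  have key : ∀ (s : Perm α) (u : α), s (s u) ≠ u → u ≠ s u ∧ u ≠ s (s u) ∧ s u ≠ s (s u) := by
    intro s u hu
    have h1 : u ≠ s u := by
      intro h
      apply hu
      rw [← h, ← h]
    exact ⟨h1, hu.symm, fun h => h1 (s.injective h)⟩
  obtain ⟨a1, a2, a3⟩ := key b y hy
  obtain ⟨b1, b2, b3⟩ := key c x hx
  obtain ⟨h, hh, e1, e2, e3⟩ := alt_ext3 hn a1 a2 a3 b1 b2 b3
  refine ⟨h, hh, two_le_agr a1 ?_ ?_⟩
  · rw [e2, e1]
  · rw [e3, e2]

/-- two disjoint arrows -/
theorem two_arrows (hn : 5 ≤ Fintype.card α) (s : Perm α) (hF : fx s ≤ 1) :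
    ∃ u v : α, u ≠ s u ∧ u ≠ v ∧ u ≠ s v ∧ s u ≠ v ∧ s u ≠ s v ∧ v ≠ s v := by
  have hs : s ≠ 1 := by
    rintro rfl
    have : fx (1 : Perm α) = Fintype.card α := by
      unfold fx
      simp [card_univ]
    omega
  obtain ⟨u, hu⟩ := exists_moved hs
  have hcard : (({u, s u, s⁻¹ u} : Finset α) ∪ univ.filter fun y => s y = y).card
      < (univ : Finset α).card := by
    have h1 := Finset.card_union_le ({u, s u, s⁻¹ u} : Finset α) (univ.filter fun y => s y = y)
    have h2 := Finset.card_le_three (a := u) (b := s u) (c := s⁻¹ u)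
    have h3 : (univ.filter fun y => s y = y).card ≤ 1 := hF
    rw [card_univ]
    omega
  obtain ⟨v, -, hv⟩ := Finset.exists_mem_notMem_of_card_lt_card hcard
  simp only [mem_union, mem_insert, mem_singleton, mem_filter, mem_univ, true_and, not_or] at hv
  obtain ⟨⟨v1, v2, v3⟩, v4⟩ := hv
  refine ⟨u, v, hu.symm, Ne.symm v1, ?_, Ne.symm v2, ?_, Ne.symm v4⟩
  · intro h
    apply v3
    rw [h]
    simp
  · intro h
    exact v1 (s.injective h).symm

theorem agree_invol (hn : 5 ≤ Fintype.card α) (b c : Perm α) (hinv : ∀ y, b (b y) = y)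
    (hFb : fx b ≤ 1) (hFc : fx c ≤ 1) : ∃ h ∈ alternatingGroup α, 2 ≤ agr b c h := by
  obtain ⟨u', v', a1, a2, a3, a4, a5, a6⟩ := two_arrows hn b hFb
  obtain ⟨u, v, b1, b2, b3, b4, b5, b6⟩ := two_arrows hn c hFc
  obtain ⟨h, e1, e2, e3, e4⟩ := sym_ext4 a1 a2 a3 a4 a5 a6 b1 b2 b3 b4 b5 b6
  rcases Int.units_eq_one_or (Perm.sign h) with hs | hs
  · refine ⟨h, hs, two_le_agr a2 ?_ ?_⟩
    · rw [e2, e1]
    · rw [e4, e3]
  · refine ⟨h * swap u' (b u'), ?_, two_le_agr a4 ?_ ?_⟩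
    · rw [Perm.mem_alternatingGroup, Perm.sign_mul, hs, Perm.sign_swap a1]
      simp
    · rw [hinv, Perm.mul_apply, Perm.mul_apply, swap_apply_left, swap_apply_right, e2, e1]
    · rw [Perm.mul_apply, Perm.mul_apply, swap_apply_of_ne_of_ne a3.symm a5.symm,
        swap_apply_of_ne_of_ne a2.symm a4.symm, e4, e3]

/-- core statement: the number of agreements is not constant on the alternating group. -/
theorem not_const_aux (hn : 5 ≤ Fintype.card α) (b c : Perm α) (hb : b ≠ 1) (hc : c ≠ 1)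
    (hle : fx b ≤ fx c) (f₀ : ℕ) (hconst : ∀ h ∈ alternatingGroup α, agr b c h = f₀) : False := by
  classical
  have hne : Nontrivial α := Fintype.one_lt_card_iff_nontrivial.1 (by omega)
  obtain ⟨y₀, y₁, h0⟩ := exists_pair_ne α
  have E := avg (alternatingGroup α) (fun y x => alt_ext1 hn y x)
    (fun y y' x x' hy hx => alt_ext2 hn hy hx) h0 b c f₀ hconst
  obtain ⟨h, hh, hge⟩ := exists_agr_ge b c hb hle
  rw [hconst h hh] at hge
  have h2b := Perm.two_le_card_support_of_ne_one hb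
  have h3b := fx_add b
  have h2c := Perm.two_le_card_support_of_ne_one hc
  have h3c := fx_add c
  set n := Fintype.card α with hn'
  have hFc : (fx c : ℤ) + 2 ≤ n := by omega
  have hFb : (fx b : ℤ) ≤ fx c := by exact_mod_cast hle
  have hge' : (fx b : ℤ) ≤ f₀ := by exact_mod_cast hge
  have hn5 : (5 : ℤ) ≤ n := by exact_mod_cast hn
  have hb0 : (0 : ℤ) ≤ fx b := by positivity
  have hf0 : (0 : ℤ) ≤ f₀ := by positivity
  -- `fx b ≤ 1`
  have hb1 : (fx b : ℤ) ≤ 1 := by
    by_contra hcon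
    push Not at hcon
    have h1 : (n : ℤ) * (n - 1) * fx b ≤ n * (n - 1) * f₀ :=
      mul_le_mul_of_nonneg_left hge' (by nlinarith)
    have h4 : ((n : ℤ) * fx b - n) * (n - fx c) ≤ 0 := by nlinarith
    have h5 : 0 < ((n : ℤ) * fx b - n) * (n - fx c) := by
      apply mul_pos
      · nlinarith
      · linarith
    linarith
  have hf1 : f₀ = 1 ∧ ((fx b = 1 ∧ 1 ≤ fx c) ∨ (fx b = 0 ∧ fx c = 1)) := by
    have hcases : fx b = 0 ∨ fx b = 1 := by omega
    rcases hcases with h0' | h1'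
    · rw [h0'] at E
      have E' : ((n : ℤ) - 1) * f₀ = n - fx c := by
        have hnz : (n : ℤ) ≠ 0 := by linarith
        apply mul_left_cancel₀ hnz
        push_cast at E
        linear_combination E
      have hf : f₀ = 1 := by
        have h6 : (f₀ : ℤ) < 2 := by
          by_contra hcon
          push Not at hcon
          have hc0 : (0 : ℤ) ≤ fx c := by positivity
          nlinarith
        have h7 : (0 : ℤ) < f₀ := by
          by_contra hcon
          push Not at hcon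
          have : (f₀ : ℤ) = 0 := le_antisymm hcon hf0
          rw [this] at E'
          linarith
        omega
      refine ⟨hf, Or.inr ⟨h0', ?_⟩⟩
      rw [hf] at E'
      push_cast at E'
      have : (fx c : ℤ) = 1 := by linarith
      exact_mod_cast this
    · rw [h1'] at E
      have hf : (f₀ : ℤ) = 1 := by
        have hnz : (n : ℤ) * (n - 1) ≠ 0 := by
          apply mul_ne_zero <;> linarith
        apply mul_left_cancel₀ hnz
        push_cast at E
        linear_combination E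
      refine ⟨by exact_mod_cast hf, Or.inl ⟨h1', ?_⟩⟩
      omega
  obtain ⟨hf, hcase⟩ := hf1
  have hfin : ∀ h ∈ alternatingGroup α, ¬ 2 ≤ agr b c h := by
    intro h hh
    rw [hconst h hh, hf]
    omega
  rcases hcase with ⟨hb1, hc1⟩ | ⟨hb0, hc1⟩
  · obtain ⟨h, hh, h2⟩ := agree_fix hn b c hb hc hb1.ge hc1
    exact hfin h hh h2
  · by_cases hbi : ∀ y, b (b y) = y
    · obtain ⟨h, hh, h2⟩ := agree_invol hn b c hbi (by omega) (by omega)
      exact hfin h hh h2
    · by_cases hci : ∀ y, c (c y) = y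
      · obtain ⟨h, hh, h2⟩ := agree_invol hn c b hci (by omega) (by omega)
        apply hfin h⁻¹ (inv_mem hh)
        rw [agr_inv, inv_inv]
        exact h2
      · push Not at hbi hci
        obtain ⟨y, hy⟩ := hbi
        obtain ⟨x, hx⟩ := hci
        obtain ⟨h, hh, h2⟩ := agree_path hn b c hy hx
        exact hfin h hh h2

theorem not_const (hn : 5 ≤ Fintype.card α) (b c : Perm α) (hb : b ≠ 1) (hc : c ≠ 1)
    (f₀ : ℕ) (hconst : ∀ h ∈ alternatingGroup α, agr b c h = f₀) : False := by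
  rcases le_total (fx b) (fx c) with hle | hle
  · exact not_const_aux hn b c hb hc hle f₀ hconst
  · refine not_const_aux hn c b hc hb hle f₀ fun h hh => ?_
    rw [agr_inv]
    exact hconst _ (inv_mem hh)

theorem card_fixedPoints_eq (a b h : Perm α) :
    Nat.card (Function.fixedPoints ⇑(1 * a * 1⁻¹ * (h * b * h⁻¹))) = agr b a⁻¹ h := by
  rw [Nat.subtype_card (univ.filter fun x => (1 * a * 1⁻¹ * (h * b * h⁻¹)) x = x)
    (by intro x; simp [Function.IsFixedPt, Function.mem_fixedPoints])]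
  unfold agr
  refine Finset.card_nbij' (fun y => h⁻¹ y) (fun x => h x) ?_ ?_ ?_ ?_
  · intro y hy
    simp only [coe_filter, mem_univ, true_and, Set.mem_ofPred_eq] at hy ⊢
    simp only [one_mul, inv_one, mul_one, Perm.mul_apply] at hy
    have e : h (h⁻¹ y) = y := by simp
    rw [e, Perm.eq_inv_iff_eq]
    exact hy
  · intro x hx
    simp only [coe_filter, mem_univ, true_and, Set.mem_ofPred_eq] at hx ⊢
    simp only [one_mul, inv_one, mul_one, Perm.mul_apply]
    have e : h⁻¹ (h x) = x := by simp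
    rw [e, hx]
    simp
  · intro y _
    simp
  · intro y _
    simp

theorem main (hn : 5 ≤ Fintype.card α) (a b : Perm α) (ha : a ≠ 1) (hb : b ≠ 1) :
    ∃ g₁ h₁ g₂ h₂ : Perm α, g₁ ∈ alternatingGroup α ∧ h₁ ∈ alternatingGroup α ∧
      g₂ ∈ alternatingGroup α ∧ h₂ ∈ alternatingGroup α ∧
      Nat.card (Function.fixedPoints ⇑(g₁ * a * g₁⁻¹ * (h₁ * b * h₁⁻¹))) ≠
        Nat.card (Function.fixedPoints ⇑(g₂ * a * g₂⁻¹ * (h₂ * b * h₂⁻¹))) := by
  by_contra hcon
  push Not at hcon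
  apply not_const hn b a⁻¹ hb (by simpa using ha) (agr b a⁻¹ 1)
  intro h hh
  rw [← card_fixedPoints_eq, ← card_fixedPoints_eq]
  exact hcon 1 h 1 1 (one_mem _) hh (one_mem _) (one_mem _)

end Cfsg.Agent.Lib.Helper95.FP
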